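import Mathlib
import Cfsg.Prelude.Def_Sz
import Cfsg.Prelude.Def_LieExceptional
import Cfsg.Agent.Lib.helper3.SuzukiCovE
import Cfsg.Agent.Lib.helper3.SuzukiInvol
import Cfsg.Agent.Lib.helper3.SuzukiTI
import Cfsg.Agent.Lib.helper3.SuzukiNilCover
import Cfsg.Agent.Lib.helper3.SuzukiMaximal
import Cfsg.Agent.Lib.helper3.SuzukiFixA

set_option autoImplicit false

/-!
# Project BSZ (designer helper3): S5737 (10u), binary coset actions of the Suzuki groups.

Definitions only.  The imports give the whole landed Suzuki library of helper3 (`Sz F m`, `gT`, `gD`, `gJ`, `Qs`, `Zs`, `oInf`, `oPt`,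
`sz_subgroup_cases`, `subStab`, `subStab_iso`, `sz_cov`, `IsTorus`, `Fpf`, `szLieEquiv`, ...).
-/

namespace Cfsg.Agent.Lib.helper3.BSZ

/-- the action of `G` on `X` is binary (relational complexity 2), exactly in the form of the frozen statement S5737 -/
def Binary (G : Type*) [Group G] (X : Type*) [MulAction G X] : Prop :=
  ∀ (n : ℕ) (I J : Fin n → X), 2 ≤ n →
    (∀ i j : Fin n, i ≠ j → ∃ g : G, g • I i = J i ∧ g • I j = J j) → ∃ g : G, ∀ i, g • I i = J i

/-- the coset action of `G` on `G ⧸ H` is binary -/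
def BinH {G : Type*} [Group G] (H : Subgroup G) : Prop := Binary G (G ⧸ H)

/-- the conjugate subgroup `a H a⁻¹`; `g ∈ cj H a ↔ a⁻¹ * g * a ∈ H` is `mem_map_conj_iff` of the library -/
abbrev cj {G : Type*} [Group G] (H : Subgroup G) (a : G) : Subgroup G :=
  H.map (MulAut.conj a).toMonoidHom

/-- `H` is the centre of a Sylow 2-subgroup, in the form of the frozen statement -/
def IsSylCen {G : Type*} [Group G] (H : Subgroup G) : Prop :=
  ∃ P : Sylow 2 G, H = (Subgroup.center (P : Subgroup G)).map (P : Subgroup G).subtype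

/-- the additive subgroup `l W` of a field -/
abbrev sc {F : Type*} [Field F] (l : F) (W : AddSubgroup F) : AddSubgroup F :=
  W.map (AddMonoidHom.mulLeft l)

end Cfsg.Agent.Lib.helper3.BSZ
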